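import Groth.Agent.Lib.GrTilde.Mul
import Groth.Agent.Lib.Stein.Main
import Groth.Agent.Lib.H1Sheaf6.Conormal

/-!
# A pairing bijective near the points of an open identifies the restricted tensor product
-/

set_option autoImplicit false
set_option linter.all false
set_option backward.isDefEq.respectTransparency false

universe u

open AlgebraicGeometry CategoryTheory CategoryTheory.Limits TopologicalSpace Opposite
open GrothLib.InvExt (mres IsGen)

noncomputable section

namespace GrothLib.TensorRestr10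

variable {X : Scheme.{u}} {P : X.PresheafOfModules} {T : X.Modules}
  (g : P ⟶ (PresheafOfModules.restrictScalars (𝟙 X.ringCatSheaf.obj)).obj T.val)

/-- The map out of the sheafification. -/
def desc : (CohB1.sheafifyMod X).obj P ⟶ T :=
  (PresheafOfModules.sheafificationHomEquiv.{u} (𝟙 X.ringCatSheaf.obj) (P := P) (F := T)).symm g

/-- The sections of the sheafification coming from the presheaf. -/
abbrev unitApp (V : X.Opens) (z : P.presheaf.obj (op V)) : Γ((CohB1.sheafifyMod X).obj P, V) :=
  ((CategoryTheory.toSheafify (Opens.grothendieckTopology X) P.presheaf).app (op V)) z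

theorem desc_unitApp (V : X.Opens) (z : P.presheaf.obj (op V)) :
    (desc g).app V (unitApp (P := P) V z) = (show Γ(T, V) from ((PresheafOfModules.toPresheaf _).map g).app (op V) z) := by
  have h := PresheafOfModules.toPresheaf_map_sheafificationHomEquiv_def (𝟙 X.ringCatSheaf.obj)
    (P := P) (F := T) (desc g)
  rw [desc, Equiv.apply_symm_apply] at h
  exact (ConcreteCategory.congr_hom (congrArg (fun q => q.app (op V)) h) z).symm

theorem exists_local_unit {V : X.Opens} (s : Γ((CohB1.sheafifyMod X).obj P, V)) {p : X} (hp : p ∈ V) :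
    ∃ (W : X.Opens) (hW : W ≤ V), p ∈ W ∧ ∃ z, unitApp (P := P) W z = mres ((CohB1.sheafifyMod X).obj P) hW s := by
  obtain ⟨W, i, ⟨z, hz⟩, hpW⟩ := Presheaf.imageSieve_mem (Opens.grothendieckTopology X)
    (CategoryTheory.toSheafify (Opens.grothendieckTopology X) P.presheaf) (U := op V) s p hp
  exact ⟨W, i.le, hpW, z, hz⟩

theorem bijective_app {V₀ : X.Opens}
    (h : ∀ W ≤ V₀, Function.Bijective (((PresheafOfModules.toPresheaf _).map g).app (op W))) {V : X.Opens}
    (hV : V ≤ V₀) : Function.Bijective ((desc g).app V) := by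
  refine ⟨fun s t hst => ?_, fun y => ?_⟩
  · have hloc : ∀ p : V, ∃ (W : X.Opens) (hW : W ≤ V), p.1 ∈ W ∧
        mres ((CohB1.sheafifyMod X).obj P) hW s = mres ((CohB1.sheafifyMod X).obj P) hW t := by
      intro p
      obtain ⟨W₁, hW₁, hp₁, z, hz⟩ := exists_local_unit s p.2
      obtain ⟨W₂, hW₂, hp₂, w, hw⟩ := exists_local_unit (mres ((CohB1.sheafifyMod X).obj P) hW₁ t) hp₁
      refine ⟨W₂, hW₂.trans hW₁, hp₂, ?_⟩
      have hnat : unitApp (P := P) W₂ (P.presheaf.map (homOfLE hW₂).op z) =
          mres ((CohB1.sheafifyMod X).obj P) hW₂ (unitApp (P := P) W₁ z) :=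
        NatTrans.naturality_apply (CategoryTheory.toSheafify (Opens.grothendieckTopology X) P.presheaf)
          (homOfLE hW₂).op z
      rw [hz, InvExt.mres_mres] at hnat
      rw [InvExt.mres_mres] at hw
      rw [← hnat, ← hw]
      refine congrArg _ ((h W₂ (hW₂.trans (hW₁.trans hV))).1 ?_)
      refine ((desc_unitApp g W₂ _).symm.trans ?_).trans (desc_unitApp g W₂ w)
      rw [hnat, hw, Ample.app_mres, Ample.app_mres, hst]
    choose W hW hpW he using hloc
    exact Ample.meq_of_cover _ W hW (fun x hx => Opens.mem_iSup.mpr ⟨⟨x, hx⟩, hpW ⟨x, hx⟩⟩) he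
  · obtain ⟨z, hz⟩ := (h V hV).2 y
    exact ⟨unitApp (P := P) V z, (desc_unitApp g V z).trans hz⟩

theorem isIso_restrict_desc (U : X.Opens)
    (h : ∀ p ∈ U, ∃ V : X.Opens, p ∈ V ∧
      ∀ W ≤ V, Function.Bijective (((PresheafOfModules.toPresheaf _).map g).app (op W))) :
    IsIso ((Scheme.Modules.restrictFunctor U.ι).map (desc g)) := by
  refine H1Sheaf6.isIso_of_bijective_small _ fun x O hx => ?_
  obtain ⟨V, hxV, hV⟩ := h x.1 x.2
  exact ⟨O ⊓ U.ι ⁻¹ᵁ V, ⟨hx, hxV⟩, inf_le_left, bijective_app g hV
    ((U.ι.image_mono inf_le_right).trans (U.ι.image_preimage_le V))⟩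

end GrothLib.TensorRestr10
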